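import Mathlib.RingTheory.Smooth.Locus
import Mathlib.RingTheory.Smooth.Flat
import Mathlib.RingTheory.Smooth.StandardSmoothOfFree
import Mathlib.RingTheory.RingHom.StandardSmooth
import Mathlib.RingTheory.RingHom.Etale
import Mathlib.RingTheory.Etale.Locus
import Mathlib.RingTheory.QuasiFinite.Basic
import Mathlib.RingTheory.QuasiFinite.Polynomial
import Mathlib.RingTheory.Ideal.GoingDown

/-!
# Smooth and quasi-finite at a prime implies étale
-/

set_option autoImplicit false
universe u v

namespace Groth.Agent.Ega4late.H526.SmoothQf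

open Polynomial in
/-- A flat algebra over `R[X]` is nowhere quasi-finite over `R`. -/
theorem not_quasiFiniteAt_of_flat_polynomial {R B : Type*} [CommRing R] [CommRing B]
    [Algebra R B] (f : R[X] →ₐ[R] B) (hf : f.toRingHom.Flat) (q : Ideal B) [q.IsPrime] :
    ¬ Algebra.QuasiFiniteAt R q := by
  intro hq
  algebraize [f.toRingHom]
  have h1 := Polynomial.map_under_lt_comap_of_quasiFiniteAt f q
  have hmp : ((q.under R).map C).IsPrime := Ideal.isPrime_map_C_of_isPrime
  obtain ⟨P, hPq, hP, hPo⟩ := Ideal.exists_ideal_lt_liesOver_of_lt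
    (p := (q.under R).map C) (q := q.under R[X]) q h1
  have h2 : P.under R = q.under R := by
    have e1 : P.under R = (P.under R[X]).under R := (Ideal.under_under (A := R) (B := R[X]) P).symm
    rw [e1, ← hPo.over]
    apply le_antisymm
    · have := Ideal.comap_mono (f := algebraMap R R[X]) h1.le
      refine this.trans ?_
      change (q.under R[X]).under R ≤ _
      rw [Ideal.under_under]
    · exact Ideal.le_comap_map
  exact hPq.ne (Algebra.QuasiFiniteAt.eq_of_le_of_under_eq (R := R) hPq.le h2)

/-- An étale algebra over a polynomial ring in `n > 0` variables is nowhere quasi-finite over the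
base. -/
theorem not_quasiFiniteAt_of_flat_mvPolynomial {A B : Type*} [CommRing A] [CommRing B]
    [Algebra A B] (n : ℕ) (g : MvPolynomial (Fin (n + 1)) A →ₐ[A] B) (hg : g.toRingHom.Flat)
    (q : Ideal B) [q.IsPrime] : ¬ Algebra.QuasiFiniteAt A q := by
  intro hq
  let e := MvPolynomial.finSuccEquiv A n
  let f₀ : Polynomial (MvPolynomial (Fin n) A) →ₐ[A] B := g.comp e.symm.toAlgHom
  let c : MvPolynomial (Fin n) A →+* B := f₀.toRingHom.comp Polynomial.C
  let _ : Algebra (MvPolynomial (Fin n) A) B := c.toAlgebra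
  have : IsScalarTower A (MvPolynomial (Fin n) A) B := IsScalarTower.of_algebraMap_eq' <| by
    rw [RingHom.algebraMap_toAlgebra, RingHom.comp_assoc]
    have : (Polynomial.C : MvPolynomial (Fin n) A →+* _).comp (algebraMap A (MvPolynomial (Fin n) A)) =
        algebraMap A (Polynomial (MvPolynomial (Fin n) A)) := by
      ext x; simp [Polynomial.algebraMap_eq, IsScalarTower.algebraMap_apply A (MvPolynomial (Fin n) A) (Polynomial (MvPolynomial (Fin n) A))]
    rw [this]
    exact f₀.comp_algebraMap.symm
  let f : Polynomial (MvPolynomial (Fin n) A) →ₐ[MvPolynomial (Fin n) A] B :=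
    { f₀.toRingHom with commutes' := fun r => rfl }
  have hf : f.toRingHom.Flat := by
    have : f.toRingHom = g.toRingHom.comp e.symm.toRingEquiv.toRingHom := rfl
    rw [this]
    exact RingHom.Flat.comp (RingHom.Flat.of_bijective e.symm.bijective) hg
  have hq2 : Algebra.QuasiFiniteAt (MvPolynomial (Fin n) A) q :=
    Algebra.QuasiFinite.of_restrictScalars A (MvPolynomial (Fin n) A) (Localization.AtPrime q)
  exact not_quasiFiniteAt_of_flat_polynomial f hf q hq2

theorem isEtaleAt_of_isSmoothAt_of_quasiFiniteAt (A : Type u) (B : Type v) [CommRing A] [CommRing B] [Algebra A B]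
    [Algebra.FinitePresentation A B] (q : Ideal B) [q.IsPrime] [Algebra.QuasiFiniteAt A q]
    [Algebra.IsSmoothAt A q] : Algebra.IsEtaleAt A q := by
  obtain ⟨g, hg, hst⟩ := Algebra.IsSmoothAt.exists_notMem_isStandardSmooth A q
  have hdisj : Disjoint (Submonoid.powers g : Set B) (q : Set B) := by
    rwa [Ideal.disjoint_powers_iff_notMem_of_isPrime]
  let Bg := Localization.Away g
  have hq'p : (q.map (algebraMap B Bg)).IsPrime :=
    IsLocalization.isPrime_of_isPrime_disjoint (.powers g) _ _ ‹_› hdisj
  have hlo : (q.map (algebraMap B Bg)).LiesOver q :=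
    ⟨(IsLocalization.under_map_of_isPrime_disjoint (.powers g) _ ‹_› hdisj).symm⟩
  have hqf : Algebra.QuasiFiniteAt A (q.map (algebraMap B Bg)) :=
    .of_surjectiveOnStalks_of_liesOver q
      (RingHom.surjectiveOnStalks_of_isLocalization (.powers g) Bg) _
  obtain ⟨n, hrel⟩ : ∃ n, Algebra.IsStandardSmoothOfRelativeDimension n A Bg := by
    obtain ⟨ι, σ, _, _, ⟨P⟩⟩ := hst
    exact ⟨P.dimension, _, _, _, ‹_›, P, rfl⟩
  have : Algebra.Etale A Bg := by
    cases n with
    | zero => infer_instance
    | succ m =>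
      obtain ⟨φ, hφ⟩ := Algebra.IsStandardSmoothOfRelativeDimension.exists_etale_mvPolynomial
        (m + 1) A Bg
      exact absurd hqf (not_quasiFiniteAt_of_flat_mvPolynomial m φ (RingHom.Etale.iff_flat_and_formallyUnramified.mp hφ).1 _)
  have hsub := Algebra.basicOpen_subset_etaleLocus_iff_etale.mpr this
  exact hsub (show (⟨q, inferInstance⟩ : PrimeSpectrum B) ∈ PrimeSpectrum.basicOpen g from hg)

end Groth.Agent.Ega4late.H526.SmoothQf
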